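import Mathlib
import Cfsg.Prelude.Def_KGroupFacts

/-!
# S3441: the outer part is cyclic (helper376): definitions

`G` nonsolvable, isospectral to a simple group `L`, `K` the solvable radical, `X = G ⧸ K`, `S` the socle of `X`.
Suppose that `X ⧸ S` is not cyclic.

* (a) the Sylow `2`-subgroups of `X ⧸ S` are not cyclic: then `2 p` is an element order of `G` for all primes `p ≥ 5`;
* (b) otherwise there is an odd prime `r` such that `r t` is an element order of `G` for all primes `t ≠ r`, `t ∣ |G|`.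

* `LF L` : the facts about `L` which contradict (a), (b);
* `SA T` : (a) for the primes dividing `|S|`, `S ≃* T`; `NA T` : noncyclic Sylow `p`-subgroups;
* `SB T` : (b) for the primes dividing `|X|`;
* `OC O` : the subgroups of `O` with cyclic Sylow `2`-subgroups are cyclic (then (b) does not occur).
-/

set_option autoImplicit false

namespace Cfsg.Agent.H376.Cyc

universe u v

/-- the facts about the element orders of the simple group `L` -/
structure LF (L : Type*) [Group L] : Prop where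
  two : ∃ p : ℕ, p.Prime ∧ 5 ≤ p ∧ p ∣ Nat.card L ∧ ¬ ∃ x : L, orderOf x = 2 * p
  odd : ∀ r : ℕ, r.Prime → r ≠ 2 → r ∣ Nat.card L →
    ∃ t : ℕ, t.Prime ∧ t ≠ r ∧ t ∣ Nat.card L ∧ ¬ ∃ x : L, orderOf x = r * t

/-- subgroups with cyclic Sylow `2`-subgroups are cyclic -/
def OC (O : Type*) [Group O] : Prop := ∀ A : Subgroup O, (∀ P : Sylow 2 ↥A, IsCyclic ↥P) → IsCyclic ↥A

/-- primes `p ≥ 5` with noncyclic Sylow `p`-subgroups are adjacent to `2` -/
def NA (T : Type*) [Group T] : Prop := ∀ p : ℕ, p.Prime → 5 ≤ p → p ∣ Nat.card T →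
  (∀ P : Sylow p T, ¬ IsCyclic ↥P) → ∃ x : T, orderOf x = 2 * p

/-- (a), the primes dividing `|S|` -/
def SA (T : Type v) [Group T] : Prop := ∀ {X : Type u} [Group X] [Finite X] (S : Subgroup X) [S.Normal],
  Subgroup.centralizer (S : Set X) = ⊥ → Nonempty (↥S ≃* T) → (∀ P : Sylow 2 (X ⧸ S), ¬ IsCyclic ↥P) →
  ∀ p : ℕ, p.Prime → 5 ≤ p → p ∣ Nat.card ↥S → ∃ x : X, orderOf x = 2 * p

/-- (b) -/
def SB (T : Type v) [Group T] : Prop := ∀ {X : Type u} [Group X] [Finite X] (S : Subgroup X) [S.Normal],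
  Subgroup.centralizer (S : Set X) = ⊥ → Nonempty (↥S ≃* T) → ¬ IsCyclic (X ⧸ S) →
  (∀ P : Sylow 2 (X ⧸ S), IsCyclic ↥P) → ∃ r : ℕ, r.Prime ∧ r ≠ 2 ∧ r ∣ Nat.card X ∧ (∀ R : Sylow r X, ¬ IsCyclic ↥R) ∧
    ∀ t : ℕ, t.Prime → t ≠ r → t ∣ Nat.card X → ∃ x : X, orderOf x = r * t

/-- two disjoint neighbourhoods -/
theorem LF.of_two {L : Type*} [Group L] [Finite L] {p t : ℕ} (hp : p.Prime) (h5 : 5 ≤ p) (hpL : p ∣ Nat.card L)
    (ht : t.Prime) (htL : t ∣ Nat.card L) (htp : t ≠ p) (h2 : ¬ ∃ x : L, orderOf x = 2 * p)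
    (hpt : ¬ ∃ x : L, orderOf x = p * t)
    (h : ∀ r : ℕ, r.Prime → r ≠ 2 → r ≠ p → r ≠ t → (∃ x : L, orderOf x = r * p) → ¬ ∃ x : L, orderOf x = r * t) :
    LF L := by
  refine ⟨⟨p, hp, h5, hpL, h2⟩, fun r hr hr2 hrL => ?_⟩
  by_cases hrp : r = p
  · subst hrp
    exact ⟨t, ht, htp, htL, hpt⟩
  by_cases h1 : ∃ x : L, orderOf x = r * p
  · have hrt : r ≠ t := by
      rintro rfl
      exact hpt (by rwa [mul_comm])
    exact ⟨t, ht, fun h => hrt h.symm, htL, h r hr hr2 hrp hrt h1⟩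
  · exact ⟨p, hp, fun h => hrp h.symm, hpL, h1⟩

/-- an isolated set of primes -/
theorem LF.of_isolated {L : Type*} [Group L] [Finite L] {π : ℕ → Prop} {p : ℕ} (hp : p.Prime) (h5 : 5 ≤ p)
    (hpL : p ∣ Nat.card L) (hpπ : π p) (h2L : 2 ∣ Nat.card L) (h2 : ¬ π 2)
    (h : ∀ r s : ℕ, r.Prime → s.Prime → π r → ¬ π s → ¬ ∃ x : L, orderOf x = r * s) : LF L := by
  refine ⟨⟨p, hp, h5, hpL, ?_⟩, fun r hr hr2 hrL => ?_⟩
  · rw [mul_comm]
    exact h p 2 hp Nat.prime_two hpπ h2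
  · by_cases hrπ : π r
    · exact ⟨2, Nat.prime_two, fun h => hr2 h.symm, h2L, h r 2 hr Nat.prime_two hrπ h2⟩
    · refine ⟨p, hp, fun h => hrπ (h ▸ hpπ), hpL, ?_⟩
      rw [mul_comm]
      exact h p r hp hr hpπ hrπ

end Cfsg.Agent.H376.Cyc
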