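import Cfsg.Agent.H376.Cyc.RowsAll
import Cfsg.Agent.H77.LFMain
import Cfsg.Agent.H977.Cyc.LfSp
import Cfsg.Agent.H706.Cyc.LfRows
import Cfsg.Agent.H129.LFExc
import Cfsg.Agent.H407.Cyc.LFE7
import Cfsg.Agent.H963.Cyc.LFSpor
import Cfsg.Agent.H366.CYC.AltL2
import Cfsg.Agent.H380.AltSpecTen
import Cfsg.Agent.S0254

/-!
# S3441: the main theorem (helper376)

* `lf_or` : `LF L`, or `L ≅ PSL₂(q)`, or `L` is alternating;
* `concl_of_quot` : `G ⧸ K` simple, `K` solvable;
* `main` : the theorem, from the classification, S3453, S3433, S3397 and the case of `A₁₀`.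
-/

set_option autoImplicit false

namespace Cfsg.Agent.H376.Cyc

open Subgroup Cfsg Cfsg.Agent.H414.Comp Cfsg.Agent.H414.Rad

universe u v

theorem LF.congr {L L' : Type*} [Group L] [Group L'] (e : L ≃* L') (h : LF L) : LF L' := by
  have ho : ∀ n : ℕ, (∃ x : L', orderOf x = n) → ∃ x : L, orderOf x = n := by
    rintro n ⟨x, hx⟩
    exact ⟨e.symm x, by rw [← hx]; exact orderOf_injective e.symm.toMonoidHom e.symm.injective x⟩
  have hc := Nat.card_congr e.toEquiv
  refine ⟨?_, ?_⟩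
  · obtain ⟨p, h1, h2, h3, h4⟩ := h.two
    exact ⟨p, h1, h2, hc ▸ h3, fun hx => h4 (ho _ hx)⟩
  · intro r hr hr2 hd
    obtain ⟨t, h1, h2, h3, h4⟩ := h.odd r hr hr2 (hc ▸ hd)
    exact ⟨t, h1, h2, hc ▸ h3, fun hx => h4 (ho _ hx)⟩

/-- **the group `L`** -/
theorem lf_or (hk0 : Cfsg.Agent.H995.CopEngine.AllKnown.{0}) {L : Type v} [Group L] [Finite L]
    (hL : ¬ IsMulCommutative L) (hk : IsKnownSimple' L) :
    LF L ∨ (∃ (F : Type) (_ : Field F) (_ : Fintype F), 4 ≤ Fintype.card F ∧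
      Nonempty (L ≃* Matrix.ProjectiveSpecialLinearGroup (Fin 2) F)) ∨
      ∃ n : ℕ, 5 ≤ n ∧ Nonempty (L ≃* alternatingGroup (Fin n)) := by
  rcases hk with h | h | h | h | h | h | h | h | h | h
  · exfalso
    have hc : IsCyclic L := isCyclic_of_prime_card (p := Nat.card L) (hp := ⟨h⟩) rfl
    apply hL
    let _ := IsCyclic.commGroup (α := L)
    exact ⟨⟨mul_comm⟩⟩
  · exact Or.inr (Or.inr h)
  · obtain ⟨F, _, _, n, hn, h4, ⟨e⟩⟩ := h
    rcases Nat.lt_or_ge 2 n with h3 | h3
    · exact Or.inl ((Cfsg.Agent.H77.LFMain.lf_psl (F := F) h3).congr e.symm)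
    · obtain rfl : n = 2 := by omega
      exact Or.inr (Or.inl ⟨F, inferInstance, inferInstance, h4 rfl, ⟨e⟩⟩)
  · obtain ⟨F, _, _, n, hn, h3, ⟨e⟩⟩ := h
    exact Or.inl ((Cfsg.Agent.H977.CycSp.lf_psp (F := F) hn h3).congr e.symm)
  · obtain ⟨F, _, _, n, q, hF, hn, h32, ⟨e⟩⟩ := h
    exact Or.inl ((Cfsg.Agent.H77.LFMain.lf_psu (F := F) hF hn h32).congr e.symm)
  · obtain ⟨F, _, _, n, hn, ho, ⟨e⟩⟩ := h
    exact Or.inl ((Cfsg.Agent.H977.CycSp.lf_oodd (F := F) hn ho).congr e.symm)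
  · obtain ⟨F, _, _, n, hn, ⟨e⟩⟩ := h
    exact Or.inl ((Cfsg.Agent.H706.Cyc.lf_oplus (F := F) hn).congr e.symm)
  · obtain ⟨F, _, _, n, a, b, hn, hab, ⟨e⟩⟩ := h
    exact Or.inl ((Cfsg.Agent.H706.Cyc.lf_ominus (F := F) hn hab).congr e.symm)
  · left
    rcases h with ⟨F, _, _, h1, ⟨e⟩⟩ | ⟨F, _, _, ⟨e⟩⟩ | ⟨F, _, _, ⟨e⟩⟩ | ⟨F, _, _, ⟨e⟩⟩ | ⟨F, _, _, ⟨e⟩⟩ | h | h | h |
      h | h | h
    · exact (Cfsg.Agent.H129.LFExc.lf_g2 (F := F) h1).congr e.symm
    · exact (Cfsg.Agent.H129.LFExc.lf_f4 (F := F)).congr e.symm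
    · exact (Cfsg.Agent.H129.LFExc.lf_e6 (F := F)).congr e.symm
    · exact (Cfsg.Agent.H407.Cyc.lf_e7 (F := F)).congr e.symm
    · exact (Cfsg.Agent.H129.LFExc.lf_e8 (F := F)).congr e.symm
    · exact Cfsg.Agent.H129.LFExc.lf_te6 h
    · exact Cfsg.Agent.H129.LFExc.lf_td4 h
    · exact Cfsg.Agent.H129.LFExc.lf_sz h
    · exact Cfsg.Agent.H129.LFExc.lf_ree h
    · exact Cfsg.Agent.H129.LFExc.lf_tf4 h
    · exact Cfsg.Agent.H129.LFExc.lf_tits h
  · exact Or.inl (Cfsg.Agent.H963.Cyc.lf_spor hk0 h)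

/-- `G ⧸ K` simple, `K` solvable -/
theorem concl_of_quot {G : Type u} [Group G] (K : Subgroup G) [K.Normal] (hK : Group.IsSolvable ↥K)
    (hs : IsSimpleGroup (G ⧸ K)) (hnc : ¬ IsMulCommutative (G ⧸ K)) : Concl G := by
  have hsol : ¬ Group.IsSolvable (G ⧸ K) := by
    intro h
    exact hnc ⟨⟨IsSimpleGroup.comm_iff_isSolvable.2 h⟩⟩
  refine concl_of_socle K hK ?_ (⊤ : Subgroup (G ⧸ K)) ?_ ?_ ?_ ?_
  · intro M hM hMs
    have h1 : (M.map (QuotientGroup.mk' K)).Normal := hM.map _ (QuotientGroup.mk'_surjective K)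
    rcases h1.eq_bot_or_eq_top with h2 | h2
    · rw [Subgroup.map_eq_bot_iff, QuotientGroup.ker_mk'] at h2
      exact h2
    · exfalso
      apply hsol
      have h3 : Group.IsSolvable ↥(M.map (QuotientGroup.mk' K)) :=
        Group.isSolvable_of_surjective (f := (QuotientGroup.mk' K).subgroupMap M)
          ((QuotientGroup.mk' K).subgroupMap_surjective M)
      rw [h2] at h3
      exact Group.isSolvable_of_surjective (f := (Subgroup.topEquiv (G := G ⧸ K)).toMonoidHom)
        Subgroup.topEquiv.surjective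
  · exact (Subgroup.topEquiv (G := G ⧸ K)).isSimpleGroup
  · obtain ⟨a, b, hab⟩ := not_comm_iff.mpr hnc
    exact ⟨⟨a, trivial⟩, ⟨b, trivial⟩, fun h => hab (congrArg Subtype.val h)⟩
  · have h1 : centralizer ((⊤ : Subgroup (G ⧸ K)) : Set (G ⧸ K)) = center (G ⧸ K) := by
      rw [Subgroup.coe_top, Subgroup.centralizer_univ]
    rw [h1]
    rcases (inferInstance : (center (G ⧸ K)).Normal).eq_bot_or_eq_top with h2 | h2
    · exact h2
    · exfalso
      apply hnc
      refine ⟨⟨fun a b => ?_⟩⟩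
      have h3 : b ∈ center (G ⧸ K) := by rw [h2]; trivial
      exact Subgroup.mem_center_iff.1 h3 a
  · have : Subsingleton ((G ⧸ K) ⧸ (⊤ : Subgroup (G ⧸ K))) := QuotientGroup.subsingleton_quotient_top
    infer_instance

/-- `G` simple -/
theorem concl_of_simple {G : Type u} [Group G] (hs : IsSimpleGroup G) (hnc : ¬ IsMulCommutative G) : Concl G := by
  have e : G ⧸ (⊥ : Subgroup G) ≃* G := QuotientGroup.quotientBot
  refine concl_of_quot (⊥ : Subgroup G) inferInstance e.isSimpleGroup ?_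
  obtain ⟨a, b, hab⟩ := not_comm_iff.mpr hnc
  refine not_comm_iff.mp ⟨e.symm a, e.symm b, fun h => hab ?_⟩
  rw [← map_mul, ← map_mul] at h
  exact e.symm.injective h

theorem concl_of_equiv {G : Type u} [Group G] {L : Type v} [Group L] [IsSimpleGroup L] (hL : ¬ IsMulCommutative L)
    (e : G ≃* L) : Concl G := by
  refine concl_of_simple e.isSimpleGroup ?_
  obtain ⟨a, b, hab⟩ := not_comm_iff.mpr hL
  refine not_comm_iff.mp ⟨e.symm a, e.symm b, fun h => hab ?_⟩
  rw [← map_mul, ← map_mul] at h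
  exact e.symm.injective h

theorem range_congr {L : Type*} [Group L] {L' : Type*} [Group L'] (e : L ≃* L') :
    Set.range (orderOf : L → ℕ) = Set.range (orderOf : L' → ℕ) := by
  ext n
  constructor
  · rintro ⟨x, rfl⟩
    exact ⟨e x, orderOf_injective e.toMonoidHom e.injective x⟩
  · rintro ⟨x, rfl⟩
    exact ⟨e.symm x, orderOf_injective e.symm.toMonoidHom e.symm.injective x⟩

/-- **the theorem** -/
theorem main {G : Type u} [Group G] [Finite G] (hG : ¬ Group.IsSolvable G) {L : Type v} [Group L] [Finite L]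
    [IsSimpleGroup L] (hL : ¬ IsMulCommutative L)
    (h : Set.range (orderOf : G → ℕ) = Set.range (orderOf : L → ℕ))
    (hk0 : Cfsg.Agent.H995.CopEngine.AllKnown.{0}) (hkL : IsKnownSimple' L)
    (hk : ∀ (T : Type u) [Group T] [Finite T] [IsSimpleGroup T], IsKnownSimple' T)
    (hgood : ∀ (X : Type u) [Group X] [Finite X] (S : Subgroup X), IsComp S → Cfsg.Agent.H414.Good.Good ↥S)
    (h53 : ∀ (F : Type) [Field F] [Fintype F], 4 ≤ Fintype.card F → Fintype.card F ≠ 9 →
      Set.range (orderOf : G → ℕ) = Set.range (orderOf : Matrix.ProjectiveSpecialLinearGroup (Fin 2) F → ℕ) →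
      Nonempty (G ≃* Matrix.ProjectiveSpecialLinearGroup (Fin 2) F))
    (h97 : ∀ n : ℕ, 5 ≤ n → n ≠ 6 → n ≠ 10 →
      Set.range (orderOf : G → ℕ) = Set.range (orderOf : alternatingGroup (Fin n) → ℕ) →
      Nonempty (G ≃* alternatingGroup (Fin n)))
    (h33 : Set.range (orderOf : G → ℕ) = {k : ℕ | 1 ≤ k ∧ k ≤ 5} → Nonempty (G ≃* ↥(alternatingGroup (Fin 6))) ∨
      ∃ (N : Subgroup G) (_ : N.Normal), Cfsg.IsElementaryAbelian 2 N ∧ Nonempty (G ⧸ N ≃* ↥(alternatingGroup (Fin 5))))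
    (h10 : Set.range (orderOf : G → ℕ) = Set.range (orderOf : alternatingGroup (Fin 10) → ℕ) → Concl G) :
    Concl G := by
  have halt : ∀ n : ℕ, 5 ≤ n → Nonempty (L ≃* alternatingGroup (Fin n)) → Concl G := by
    rintro n hn ⟨e⟩
    have hr := h.trans (range_congr e)
    by_cases h6 : n = 6
    · subst h6
      rcases h33 (hr.trans (Cfsg.Agent.H380.AltSpec.range_six.trans (by
        ext k
        simp only [List.mem_cons, List.not_mem_nil, or_false, Set.mem_ofPred_eq]
        omega))) with ⟨⟨f⟩⟩ | ⟨N, hN, hel, ⟨f⟩⟩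
      · exact concl_of_equiv hL (f.trans e.symm)
      · have h5 : IsSimpleGroup (alternatingGroup (Fin 5)) := alternatingGroup.isSimpleGroup (by simp)
        refine concl_of_quot N ?_ f.isSimpleGroup ?_
        · exact Group.isSolvable_of_comm fun a b => hel.1.is_comm.comm a b
        · refine not_comm_iff.mp ?_
          obtain ⟨a, b, hab⟩ : ∃ a b : alternatingGroup (Fin 5), a * b ≠ b * a := by
            by_contra hc
            push Not at hc
            have h4 : (Nat.card (alternatingGroup (Fin 5))).Prime := by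
              let _ : CommGroup (alternatingGroup (Fin 5)) :=
                { (inferInstance : Group (alternatingGroup (Fin 5))) with mul_comm := hc }
              exact IsSimpleGroup.prime_card
            have h5 : Nat.card (alternatingGroup (Fin 5)) = 60 := by
              have : Nontrivial (Fin 5) := inferInstance
              have h6 := two_mul_card_alternatingGroup (α := Fin 5)
              rw [Fintype.card_perm, Fintype.card_fin] at h6
              rw [Nat.card_eq_fintype_card]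
              have h7 : Nat.factorial 5 = 120 := by decide
              omega
            rw [h5] at h4
            exact absurd h4 (by norm_num)
          refine ⟨f.symm a, f.symm b, fun h => hab ?_⟩
          rw [← map_mul, ← map_mul] at h
          exact f.symm.injective h
    · by_cases h10' : n = 10
      · subst h10'
        exact h10 hr
      · obtain ⟨f⟩ := h97 n hn h6 h10' hr
        exact concl_of_equiv hL (f.trans e.symm)
  rcases lf_or hk0 hL hkL with hLF | ⟨F, _, _, h4, ⟨e⟩⟩ | ⟨n, hn, e⟩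
  · exact frame hG h hLF (fun X _ _ S _ hs hnc hC => rows_all X S hs hnc hC (hk ↥S)) hgood
  · by_cases h9 : Fintype.card F = 9
    · obtain ⟨f⟩ := Cfsg.Agent.S0254.result h9
      exact halt 6 (by norm_num) ⟨e.trans f⟩
    · obtain ⟨f⟩ := h53 F h4 h9 (h.trans (range_congr e))
      exact concl_of_equiv hL (f.trans e.symm)
  · exact halt n hn e

end Cfsg.Agent.H376.Cyc
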