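import Cfsg.Agent.H376.Cyc.Def
import Cfsg.Agent.H366.CYC.Red
import Cfsg.Agent.H366.CYC.AltL2
import Cfsg.Agent.H414.Spec

/-!
# S3441: the frame (helper376)

* `Concl G` : the conclusion of S3441;
* `concl_of_socle` : from the socle of `G ⧸ K`;
* `Rows X S` : the two statements (a), (b) for a normal subgroup `S` of `X`;
* `frame` : `ω(G) = ω(L)`, `LF L`, `Rows` for all socles: `Concl G`.
-/

set_option autoImplicit false

namespace Cfsg.Agent.H376.Cyc

open Subgroup Cfsg.Agent.H414.Vasiliev Cfsg.Agent.H414.Spec Cfsg.Agent.H414.Comp Cfsg.Agent.H414.Rad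

universe u v

/-- the conclusion -/
def Concl (G : Type u) [Group G] : Prop :=
  ∃ (K H : Subgroup G) (_ : K.Normal) (_ : H.Normal), K ≤ H ∧ Group.IsSolvable K ∧
      (∀ M : Subgroup G, M.Normal → Group.IsSolvable M → M ≤ K) ∧
      IsSimpleGroup (H ⧸ K.subgroupOf H) ∧ ¬ IsMulCommutative (H ⧸ K.subgroupOf H) ∧
      Subgroup.centralizer ((H.map (QuotientGroup.mk' K) : Subgroup (G ⧸ K)) : Set (G ⧸ K)) = ⊥ ∧ IsCyclic (G ⧸ H)

/-- the quotient of the preimage -/
noncomputable def comapEquiv {G : Type u} [Group G] (K : Subgroup G) [K.Normal] (S : Subgroup (G ⧸ K)) :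
    (↥(S.comap (QuotientGroup.mk' K)) ⧸ K.subgroupOf (S.comap (QuotientGroup.mk' K))) ≃* ↥S := by
  let f : ↥(S.comap (QuotientGroup.mk' K)) →* ↥S :=
    ((QuotientGroup.mk' K).domRestrict (S.comap (QuotientGroup.mk' K))).codRestrict S fun y => y.2
  have hf : Function.Surjective f := by
    rintro ⟨y, hy⟩
    obtain ⟨g, rfl⟩ := QuotientGroup.mk'_surjective K y
    exact ⟨⟨g, hy⟩, rfl⟩
  have hk : f.ker = K.subgroupOf (S.comap (QuotientGroup.mk' K)) := by
    ext y
    rw [MonoidHom.mem_ker, Subgroup.mem_subgroupOf]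
    constructor
    · intro h
      exact (QuotientGroup.eq_one_iff (y : G)).1 (congrArg Subtype.val h)
    · intro h
      exact Subtype.ext ((QuotientGroup.eq_one_iff (y : G)).2 h)
  exact (QuotientGroup.quotientMulEquivOfEq hk.symm).trans (QuotientGroup.quotientKerEquivOfSurjective f hf)

theorem le_comap_mk {G : Type u} [Group G] (K : Subgroup G) [K.Normal] (S : Subgroup (G ⧸ K)) :
    K ≤ S.comap (QuotientGroup.mk' K) := by
  intro k hk
  rw [Subgroup.mem_comap, show QuotientGroup.mk' K k = 1 from (QuotientGroup.eq_one_iff k).2 hk]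
  exact one_mem S

/-- the third isomorphism theorem -/
noncomputable def quotEquiv {G : Type u} [Group G] (K : Subgroup G) [K.Normal] (S : Subgroup (G ⧸ K)) [S.Normal] :
    (G ⧸ S.comap (QuotientGroup.mk' K)) ≃* (G ⧸ K) ⧸ S := by
  let f : G ⧸ S.comap (QuotientGroup.mk' K) →* (G ⧸ K) ⧸ S :=
    QuotientGroup.map _ S (QuotientGroup.mk' K) le_rfl
  refine MulEquiv.ofBijective f ⟨?_, ?_⟩
  · rw [injective_iff_map_eq_one]
    intro y hy
    obtain ⟨g, rfl⟩ := QuotientGroup.mk'_surjective _ y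
    have h2 : QuotientGroup.mk' K g ∈ S := (QuotientGroup.eq_one_iff _).1 hy
    exact (QuotientGroup.eq_one_iff g).2 h2
  · intro y
    obtain ⟨z, rfl⟩ := QuotientGroup.mk'_surjective _ y
    obtain ⟨g, rfl⟩ := QuotientGroup.mk'_surjective _ z
    exact ⟨QuotientGroup.mk' _ g, rfl⟩

theorem not_comm_iff {S : Type*} [Group S] : (∃ a b : S, a * b ≠ b * a) ↔ ¬ IsMulCommutative S := by
  constructor
  · rintro ⟨a, b, h⟩ hc
    exact h (hc.is_comm.comm a b)
  · intro h
    by_contra hc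
    push Not at hc
    exact h ⟨⟨hc⟩⟩

/-- **the conclusion from the socle** -/
theorem concl_of_socle {G : Type u} [Group G] (K : Subgroup G) [K.Normal] (hK : Group.IsSolvable ↥K)
    (hKmax : ∀ M : Subgroup G, M.Normal → Group.IsSolvable ↥M → M ≤ K) (S : Subgroup (G ⧸ K)) [S.Normal]
    (hs : IsSimpleGroup ↥S) (hnc : ∃ a b : ↥S, a * b ≠ b * a) (hc : centralizer (S : Set (G ⧸ K)) = ⊥)
    (hcyc : IsCyclic ((G ⧸ K) ⧸ S)) : Concl G := by
  refine ⟨K, S.comap (QuotientGroup.mk' K), inferInstance, inferInstance, le_comap_mk K S, hK, hKmax, ?_, ?_, ?_, ?_⟩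
  · exact (comapEquiv K S).isSimpleGroup
  · rw [← not_comm_iff]
    obtain ⟨a, b, h⟩ := hnc
    refine ⟨(comapEquiv K S).symm a, (comapEquiv K S).symm b, fun h1 => h ?_⟩
    rw [← map_mul, ← map_mul] at h1
    exact (comapEquiv K S).symm.injective h1
  · rw [Subgroup.map_comap_eq_self_of_surjective (QuotientGroup.mk'_surjective K)]
    exact hc
  · exact (quotEquiv K S).isCyclic.mpr hcyc

/-- (a) and (b) for `S` in `X` -/
structure Rows (X : Type u) [Group X] (S : Subgroup X) [S.Normal] : Prop where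
  two : (∀ P : Sylow 2 (X ⧸ S), ¬ IsCyclic ↥P) → ∀ p : ℕ, p.Prime → 5 ≤ p → p ∣ Nat.card ↥S → ∃ x : X, orderOf x = 2 * p
  odd : ¬ IsCyclic (X ⧸ S) → (∀ P : Sylow 2 (X ⧸ S), IsCyclic ↥P) → ∃ r : ℕ, r.Prime ∧ r ≠ 2 ∧ r ∣ Nat.card X ∧
    (∀ R : Sylow r X, ¬ IsCyclic ↥R) ∧ ∀ t : ℕ, t.Prime → t ≠ r → t ∣ Nat.card X → ∃ x : X, orderOf x = r * t

theorem Rows.of_sa_sb {T : Type v} [Group T] (ha : SA.{u, v} T) (hb : SB.{u, v} T) (X : Type u) [Group X] [Finite X]
    (S : Subgroup X) [S.Normal] (hc : centralizer (S : Set X) = ⊥) (e : Nonempty (↥S ≃* T)) : Rows X S :=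
  ⟨fun h => ha S hc e h, fun h1 h2 => hb S hc e h1 h2⟩

theorem Rows.of_cyclic (X : Type u) [Group X] [Finite X] (S : Subgroup X) [S.Normal] (h : IsCyclic (X ⧸ S)) :
    Rows X S := by
  refine ⟨fun h1 => ?_, fun h1 => absurd h h1⟩
  exfalso
  obtain ⟨P⟩ : Nonempty (Sylow 2 (X ⧸ S)) := inferInstance
  exact h1 P (isCyclic_of_injective (P : Subgroup (X ⧸ S)).subtype Subtype.val_injective)

/-- an element of a quotient -/
theorem exists_lift {G : Type u} [Group G] [Finite G] (K : Subgroup G) [K.Normal] {n : ℕ}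
    (h : ∃ x : G ⧸ K, orderOf x = n) : ∃ x : G, orderOf x = n := by
  obtain ⟨x, hx⟩ := h
  obtain ⟨g, rfl⟩ := QuotientGroup.mk'_surjective K x
  have h1 : n ∣ orderOf g := hx ▸ orderOf_map_dvd (QuotientGroup.mk' K) g
  exact ⟨g ^ (orderOf g / n), orderOf_pow_orderOf_div (orderOf_pos g).ne' h1⟩

/-- the Sylow `2`-subgroups of a nonabelian simple group are not cyclic -/
theorem not_cyclic_two {X : Type u} [Group X] [Finite X] {S : Subgroup X} (hS : IsComp S) (P : Sylow 2 ↥S) :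
    ¬ IsCyclic ↥P := by
  intro hP
  have := hS.simple
  obtain ⟨N, hN, h2, hle, -⟩ := H366.CYC.exists_complement (Q := ↥S)
    fun P' => (MulEquiv.isCyclic (Sylow.equiv P P')).mp hP
  have hcomm : commutator ↥S ≠ ⊥ := by
    intro hb
    obtain ⟨a, b, hab⟩ := hS.noncomm
    apply hab
    rw [← commutatorElement_eq_one_iff_mul_comm, ← Subgroup.mem_bot, ← hb]
    exact Subgroup.commutator_mem_commutator (Subgroup.mem_top a) (Subgroup.mem_top b)
  have htop : N = ⊤ := by
    rcases hN.eq_bot_or_eq_top with h | h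
    · exact absurd (eq_bot_iff.mpr (hle.trans h.le)) hcomm
    · exact h
  apply h2
  rw [htop, Subgroup.card_top]
  exact hS.two_dvd

/-- **The frame, first half**: the Sylow `2`-subgroups of `X ⧸ S` are cyclic. -/
theorem frame_two {G : Type u} [Group G] [Finite G] (hG : ¬ Group.IsSolvable G) {p : ℕ} (hp : p.Prime) (hp5 : 5 ≤ p)
    (hpG : p ∣ Nat.card G) (hp2G : ¬ ∃ x : G, orderOf x = 2 * p)
    (hrow : ∀ (X : Type u) [Group X] [Finite X] (S : Subgroup X) [S.Normal], IsSimpleGroup ↥S →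
      (∃ a b : ↥S, a * b ≠ b * a) → centralizer (S : Set X) = ⊥ → Rows X S)
    (hgood : ∀ (X : Type u) [Group X] [Finite X] (S : Subgroup X), IsComp S → Cfsg.Agent.H414.Good.Good ↥S) :
    ∃ (K : Subgroup G) (_ : K.Normal) (S : Subgroup (G ⧸ K)) (_ : S.Normal), Group.IsSolvable ↥K ∧
      (∀ M : Subgroup G, M.Normal → Group.IsSolvable ↥M → M ≤ K) ∧ IsComp S ∧ centralizer (S : Set (G ⧸ K)) = ⊥ ∧
      (AltL2 ↥S ∨ (¬ p ∣ Nat.card ↥K ∧ ¬ p ∣ S.index)) ∧ ∀ P : Sylow 2 ((G ⧸ K) ⧸ S), IsCyclic ↥P := by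
  obtain ⟨K, hKn, hK, hKmax⟩ := exists_radical G
  obtain ⟨S, hS, hSn, hSc, halt'⟩ := exists_socle hG hp (by omega) hpG hp2G K hK hKmax
  refine ⟨K, hKn, S, hSn, hK, hKmax, hS, hSc, halt', ?_⟩
  have hSs := hS.simple
  have hrows := hrow (G ⧸ K) S hS.simple hS.noncomm hSc
  have hcG : Nat.card G = Nat.card (G ⧸ K) * Nat.card ↥K := Subgroup.card_eq_card_quotient_mul_card_subgroup K
  by_contra h2
  push Not at h2
  obtain ⟨P, hP⟩ := h2
  have h2' : ∀ P : Sylow 2 ((G ⧸ K) ⧸ S), ¬ IsCyclic ↥P := fun P' hP' =>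
    hP ((MulEquiv.isCyclic (Sylow.equiv P' P)).mp hP')
  apply hp2G
  by_cases hpK : p ∣ Nat.card ↥K
  · refine H366.CYC.exists_of_two K (S.comap (QuotientGroup.mk' K)) (le_comap_mk K S) hp Nat.prime_two (by omega) hpK
      ?_ ?_
    · intro T hT
      let T' : Sylow 2 ((G ⧸ K) ⧸ S) := T.mapSurjective (f := (quotEquiv K S).toMonoidHom) (quotEquiv K S).surjective
      refine h2' T' ?_
      have : IsCyclic ((T : Subgroup (G ⧸ S.comap (QuotientGroup.mk' K))).map (quotEquiv K S).toMonoidHom) :=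
        ((MulEquiv.isCyclic ((T : Subgroup _).equivMapOfInjective (quotEquiv K S).toMonoidHom
          (quotEquiv K S).injective)).mp hT)
      exact this
    · intro T hT
      let T' : Sylow 2 ↥S := T.mapSurjective (f := (comapEquiv K S).toMonoidHom) (comapEquiv K S).surjective
      refine not_cyclic_two hS T' ?_
      have : IsCyclic ((T : Subgroup _).map (comapEquiv K S).toMonoidHom) :=
        ((MulEquiv.isCyclic ((T : Subgroup _).equivMapOfInjective (comapEquiv K S).toMonoidHom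
          (comapEquiv K S).injective)).mp hT)
      exact this
  · have hpX : p ∣ Nat.card (G ⧸ K) := by
      rw [hcG] at hpG
      exact (hp.dvd_mul.1 hpG).resolve_right hpK
    refine exists_lift K ?_
    by_cases hpS : p ∣ Nat.card ↥S
    · exact hrows.two h2' p hp hp5 hpS
    · have hpQ : p ∣ Nat.card ((G ⧸ K) ⧸ S) := by
        rw [Subgroup.card_eq_card_quotient_mul_card_subgroup S] at hpX
        exact (hp.dvd_mul.1 hpX).resolve_right hpS
      exact H366.CYC.exists_two_mul_of_dvd S (hgood (G ⧸ K) S hS) hp (by omega) hpQ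

/-- **The frame.** -/
theorem frame {G : Type u} [Group G] [Finite G] (hG : ¬ Group.IsSolvable G) {L : Type v} [Group L] [Finite L]
    (h : Set.range (orderOf : G → ℕ) = Set.range (orderOf : L → ℕ)) (hL : LF L)
    (hrow : ∀ (X : Type u) [Group X] [Finite X] (S : Subgroup X) [S.Normal], IsSimpleGroup ↥S →
      (∃ a b : ↥S, a * b ≠ b * a) → centralizer (S : Set X) = ⊥ → Rows X S)
    (hgood : ∀ (X : Type u) [Group X] [Finite X] (S : Subgroup X), IsComp S → Cfsg.Agent.H414.Good.Good ↥S) :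
    Concl G := by
  obtain ⟨p, hp, hp5, hpL, hp2⟩ := hL.two
  obtain ⟨K, hKn, S, hSn, hK, hKmax, hS, hSc, -, h2⟩ := frame_two hG hp hp5 ((dvd_card_iff h hp).2 hpL)
    (fun hx => hp2 ((exists_iff h _).1 hx)) hrow hgood
  have hrows := hrow (G ⧸ K) S hS.simple hS.noncomm hSc
  have hcG : Nat.card G = Nat.card (G ⧸ K) * Nat.card ↥K := Subgroup.card_eq_card_quotient_mul_card_subgroup K
  by_cases hcyc : IsCyclic ((G ⧸ K) ⧸ S)
  · exact concl_of_socle K hK hKmax S hS.simple hS.noncomm hSc hcyc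
  exfalso
  obtain ⟨r, hr, hr2, hrX, hrnc, hradj⟩ := hrows.odd hcyc h2
  have hrG : r ∣ Nat.card G := hcG ▸ Dvd.dvd.mul_right hrX _
  obtain ⟨t, ht, htr, htL, hno⟩ := hL.odd r hr hr2 ((dvd_card_iff h hr).1 hrG)
  have htG : t ∣ Nat.card G := (dvd_card_iff h ht).2 htL
  apply hno
  rw [← exists_iff h]
  by_cases htX : t ∣ Nat.card (G ⧸ K)
  · exact exists_lift K (hradj t ht htr htX)
  · rw [hcG] at htG
    exact H366.CYC.exists_of_noncyclic K ht hr hr2 (fun h => htr h.symm) ((ht.dvd_mul.1 htG).resolve_left htX) hrnc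

end Cfsg.Agent.H376.Cyc
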