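import Cfsg.Agent.H376.Cyc.Frame
import Cfsg.Agent.H75.Cyc.Lie
import Cfsg.Agent.H489.OutSpor

/-!
# S3441: the rows (a), (b) for all simple groups (helper376)
-/

set_option autoImplicit false

namespace Cfsg.Agent.H376.Cyc

open Subgroup Cfsg

universe u v

/-- Every group of Lie type has a characteristic. -/
theorem exists_char {K : Type*} [Group K]
    (h : IsPSL K ∨ IsPSp K ∨ IsPSU K ∨ IsPOmegaOdd K ∨ IsPOmegaPlus K ∨ IsPOmegaMinus K ∨ IsExceptionalLieType K) :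
    (∃ p : ℕ, IsLieTypeChar p K) ∨ Lie.IsoTits K := by
  rcases h with ⟨F, _, _, n, h1, h2, h3⟩ | ⟨F, _, _, n, h1, h2, h3⟩ | ⟨F, _, _, n, q, h1, h2, h3, h4⟩ |
    ⟨F, _, _, n, h1, h2, h3⟩ | ⟨F, _, _, n, h1, h2⟩ | ⟨F, _, _, n, a, b, h1, h2, h3⟩ | h
  · obtain ⟨p, hp⟩ := CharP.exists F
    exact Or.inl ⟨p, Or.inl ⟨F, inferInstance, inferInstance, hp, n, h1, h2, h3⟩⟩
  · obtain ⟨p, hp⟩ := CharP.exists F
    exact Or.inl ⟨p, Or.inr (Or.inl ⟨F, inferInstance, inferInstance, hp, n, h1, h2, h3⟩)⟩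
  · obtain ⟨p, hp⟩ := CharP.exists F
    exact Or.inl ⟨p, Or.inr (Or.inr (Or.inl ⟨F, inferInstance, inferInstance, hp, n, q, h1, h2, h3, h4⟩))⟩
  · obtain ⟨p, hp⟩ := CharP.exists F
    exact Or.inl ⟨p, Or.inr (Or.inr (Or.inr (Or.inl ⟨F, inferInstance, inferInstance, hp, n, h1, h2, h3⟩)))⟩
  · obtain ⟨p, hp⟩ := CharP.exists F
    exact Or.inl ⟨p, Or.inr (Or.inr (Or.inr (Or.inr (Or.inl ⟨F, inferInstance, inferInstance, hp, n, h1, h2⟩))))⟩
  · obtain ⟨p, hp⟩ := CharP.exists F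
    exact Or.inl ⟨p, Or.inr (Or.inr (Or.inr (Or.inr (Or.inr (Or.inl
      ⟨F, inferInstance, inferInstance, hp, n, a, b, h1, h2, h3⟩)))))⟩
  · rcases h with ⟨F, _, _, h1, h2⟩ | ⟨F, _, _, h1⟩ | ⟨F, _, _, h1⟩ | ⟨F, _, _, h1⟩ | ⟨F, _, _, h1⟩ |
      ⟨F, _, _, q, h1, h2, h3⟩ | ⟨F, _, _, q, h1, h2, h3⟩ | h | h | h | h
    · obtain ⟨p, hp⟩ := CharP.exists F
      exact Or.inl ⟨p, Or.inr (Or.inr (Or.inr (Or.inr (Or.inr (Or.inr (Or.inl
        ⟨F, inferInstance, inferInstance, hp, Or.inl ⟨h1, h2⟩⟩))))))⟩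
    · obtain ⟨p, hp⟩ := CharP.exists F
      exact Or.inl ⟨p, Or.inr (Or.inr (Or.inr (Or.inr (Or.inr (Or.inr (Or.inl
        ⟨F, inferInstance, inferInstance, hp, Or.inr (Or.inl h1)⟩))))))⟩
    · obtain ⟨p, hp⟩ := CharP.exists F
      exact Or.inl ⟨p, Or.inr (Or.inr (Or.inr (Or.inr (Or.inr (Or.inr (Or.inl
        ⟨F, inferInstance, inferInstance, hp, Or.inr (Or.inr (Or.inl h1))⟩))))))⟩
    · obtain ⟨p, hp⟩ := CharP.exists F
      exact Or.inl ⟨p, Or.inr (Or.inr (Or.inr (Or.inr (Or.inr (Or.inr (Or.inl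
        ⟨F, inferInstance, inferInstance, hp, Or.inr (Or.inr (Or.inr (Or.inl h1)))⟩))))))⟩
    · obtain ⟨p, hp⟩ := CharP.exists F
      exact Or.inl ⟨p, Or.inr (Or.inr (Or.inr (Or.inr (Or.inr (Or.inr (Or.inl
        ⟨F, inferInstance, inferInstance, hp, Or.inr (Or.inr (Or.inr (Or.inr h1)))⟩))))))⟩
    · obtain ⟨p, hp⟩ := CharP.exists F
      exact Or.inl ⟨p, Or.inr (Or.inr (Or.inr (Or.inr (Or.inr (Or.inr (Or.inr (Or.inl
        ⟨F, inferInstance, inferInstance, hp, q, h1, Or.inl ⟨h2, h3⟩⟩)))))))⟩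
    · obtain ⟨p, hp⟩ := CharP.exists F
      exact Or.inl ⟨p, Or.inr (Or.inr (Or.inr (Or.inr (Or.inr (Or.inr (Or.inr (Or.inl
        ⟨F, inferInstance, inferInstance, hp, q, h1, Or.inr ⟨h2, h3⟩⟩)))))))⟩
    · exact Or.inl ⟨2, Or.inr (Or.inr (Or.inr (Or.inr (Or.inr (Or.inr (Or.inr (Or.inr (Or.inl ⟨rfl, h⟩))))))))⟩
    · exact Or.inl ⟨3, Or.inr (Or.inr (Or.inr (Or.inr (Or.inr (Or.inr (Or.inr (Or.inr (Or.inr (Or.inr ⟨rfl, h⟩)))))))))⟩
    · exact Or.inl ⟨2, Or.inr (Or.inr (Or.inr (Or.inr (Or.inr (Or.inr (Or.inr (Or.inr (Or.inr (Or.inl ⟨rfl, h⟩)))))))))⟩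
    · exact Or.inr h

/-- a group of order at most `2` is cyclic -/
theorem cyclic_of_le_two {Q : Type*} [Group Q] [Finite Q] (h : Nat.card Q ≤ 2) : IsCyclic Q := by
  have h1 : 0 < Nat.card Q := Nat.card_pos
  rcases (by omega : Nat.card Q = 1 ∨ Nat.card Q = 2) with h2 | h2
  · have : Subsingleton Q := (Nat.card_eq_one_iff_unique.mp h2).1
    infer_instance
  · have : Fact (Nat.Prime 2) := ⟨Nat.prime_two⟩
    exact isCyclic_of_prime_card h2

theorem finite_out {T : Type*} [Group T] [Finite T] : Finite (Out T) := by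
  have : Finite (MulAut T) := Finite.of_injective (fun f : MulAut T => (f : T → T)) DFunLike.coe_injective
  exact Quotient.finite _

/-- `|Out S| ≤ 2` -/
theorem rows_of_out {X : Type u} [Group X] [Finite X] (S : Subgroup X) [S.Normal] (hC : centralizer (S : Set X) = ⊥)
    {T : Type v} [Group T] (e : ↥S ≃* T) (h : Nat.card (Out T) ≤ 2) : Rows X S := by
  refine Rows.of_cyclic X S (cyclic_of_le_two ?_)
  have hT : Finite T := Finite.of_equiv _ e.toEquiv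
  have hO : Finite (Out T) := finite_out
  obtain ⟨f, hf⟩ := Cfsg.Agent.H366.CYC.exists_out S hC e
  exact (Nat.card_le_card_of_injective f hf).trans h

theorem rows_of_lie {X : Type u} [Group X] [Finite X] (S : Subgroup X) [S.Normal] (hs : IsSimpleGroup ↥S)
    (hnc : ∃ a b : ↥S, a * b ≠ b * a) (hC : centralizer (S : Set X) = ⊥) {p : ℕ} (h : IsLieTypeChar p ↥S) :
    Rows X S :=
  Rows.of_sa_sb (T := ↥S) (Cfsg.Agent.H75.Cyc.sa_of_lie h)
    (Cfsg.Agent.H75.Cyc.sb_of_lie hs (not_comm_iff.mp hnc) h) X S hC ⟨MulEquiv.refl _⟩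

/-- **The rows.** -/
theorem rows_all (X : Type u) [Group X] [Finite X] (S : Subgroup X) [S.Normal] (hs : IsSimpleGroup ↥S)
    (hnc : ∃ a b : ↥S, a * b ≠ b * a) (hC : centralizer (S : Set X) = ⊥) (hk : IsKnownSimple' ↥S) : Rows X S := by
  have key : (IsPSL ↥S ∨ IsPSp ↥S ∨ IsPSU ↥S ∨ IsPOmegaOdd ↥S ∨ IsPOmegaPlus ↥S ∨ IsPOmegaMinus ↥S ∨
      IsExceptionalLieType ↥S) → Rows X S := by
    intro h
    rcases exists_char h with ⟨p, hp⟩ | ht
    · exact rows_of_lie S hs hnc hC hp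
    · exact rows_of_out S hC (MulEquiv.refl _) (Cfsg.Agent.H489.card_out_tits ht)
  rcases hk with h | h | h | h | h | h | h | h | h | h
  · exfalso
    have hc : IsCyclic ↥S := isCyclic_of_prime_card (p := Nat.card ↥S) (hp := ⟨h⟩) rfl
    obtain ⟨a, b, hab⟩ := hnc
    let _ := IsCyclic.commGroup (α := ↥S)
    exact hab (mul_comm a b)
  · obtain ⟨n, hn, ⟨e⟩⟩ := h
    by_cases h6 : n = 6
    · subst h6
      exact key (Or.inl (Cfsg.Agent.H489.isPSL_alt_six e))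
    · exact rows_of_out S hC e (Cfsg.Agent.H489.card_out_alt hn h6).le
  · exact key (Or.inl h)
  · exact key (Or.inr (Or.inl h))
  · exact key (Or.inr (Or.inr (Or.inl h)))
  · exact key (Or.inr (Or.inr (Or.inr (Or.inl h))))
  · exact key (Or.inr (Or.inr (Or.inr (Or.inr (Or.inl h)))))
  · exact key (Or.inr (Or.inr (Or.inr (Or.inr (Or.inr (Or.inl h))))))
  · exact key (Or.inr (Or.inr (Or.inr (Or.inr (Or.inr (Or.inr h))))))
  · exact rows_of_out S hC (MulEquiv.refl _) (Cfsg.Agent.H489.card_out_sporadic h)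

end Cfsg.Agent.H376.Cyc
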